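import Mathlib
import Cfsg.Agent.Lib.ChDeg.MinNonab
import Cfsg.Agent.Lib.CharDeep.Gallagher
import Cfsg.Agent.Lib.Core.SolvCriteria
import Cfsg.Agent.Lib.Fgs.ClassSize
import Cfsg.Agent.Lib.LAE.Sylow
import Cfsg.Agent.S0900

/-! Fully ramified characters: Sylow subgroups and complements in factor groups. -/

set_option autoImplicit false

open Cfsg CfsgLib.Char CfsgLib.CharDeep CfsgLib.ChDeg CfsgLib.LAE Subgroup

namespace CfsgLib.FullRam

variable {G : Type*} [Group G]

/-- `f` vanishes off `Z` and is `e` times an irreducible character on `Z`. -/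
def Hom (Z : Subgroup G) (f : G → ℂ) (e : ℕ) : Prop :=
  (∀ g, g ∉ Z → f g = 0) ∧ ∃ θ : Z → ℂ, IsIrrCharacter Z θ ∧ ∀ z : Z, f z = e * θ z

theorem Hom.res {Z L : Subgroup G} {f : G → ℂ} {e : ℕ} (h : Hom Z f e) (hL : Z ≤ L) :
    Hom (Z.subgroupOf L) (fun x : L => f x) e := by
  obtain ⟨h1, θ, h2, h3⟩ := h
  exact ⟨fun g hg => h1 g hg, _, isIrr_comp_mulEquiv (subgroupOfEquivOfLe hL) h2,
    fun z => h3 (subgroupOfEquivOfLe hL z)⟩

theorem isCyclic_quot {N : Subgroup G} [N.Normal] {C : Type*} [Group C] [IsCyclic C]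
    (π : G →* C) (hπ : π.ker = N) : IsCyclic (G ⧸ N) :=
  isCyclic_of_surjective _ ((QuotientGroup.quotientMulEquivOfEq hπ).symm.trans
    (QuotientGroup.quotientKerEquivRange _)).symm.surjective

theorem mult_one [Fintype G] (N : Subgroup G) [N.Normal] [Fintype N] {C : Type*} [Group C]
    [IsCyclic C] (π : G →* C) (hπ : π.ker = N) {χ : G → ℂ} (hχ : IsIrrCharacter G χ) {θ : N → ℂ}
    (hθ : IsIrrCharacter N θ) (h : classInner (fun n : N => χ n) θ ≠ 0) :
    classInner (fun n : N => χ n) θ = 1 := by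
  classical
  obtain ⟨T, hT'⟩ : ∃ T, T = inertia N θ := ⟨_, rfl⟩
  have hT : N ≤ T := hT' ▸ le_inertia N (isClassFunction_of_isIrr hθ)
  obtain ⟨ψ, hψ, -, h1⟩ := clifford_corr N T hT hθ hT' hχ h
  have : IsCyclic (T ⧸ N.subgroupOf T) := isCyclic_quot (π.comp T.subtype) (by rw [← hπ]; rfl)
  let j := subgroupOfEquivOfLe hT
  obtain ⟨χ0, h0, h2⟩ := exists_irr_extension_of_isCyclic (N.subgroupOf T)
    (isIrr_comp_mulEquiv j hθ) fun g n => (mem_inertia' N).1 (hT'.le g.2) (j n)
  have h3 := classInner_comp_mulEquiv j (fun n : N => ψ ⟨n, hT n.2⟩) θ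
  obtain ⟨β, hβ, hβN, e⟩ := gallagher_surj (N.subgroupOf T) (isCharacter_of_isIrr h0)
    (by rw [funext h2]; exact isIrr_comp_mulEquiv j hθ) hψ
    (by rw [funext h2]; exact fun e => h (h1.symm.trans (h3.symm.trans e)))
  have h4 : β 1 = 1 := one_eq_one_of_commutator_le hβ fun g hg =>
    (mem_cker (isCharacter_of_isIrr hβ)).2 (hβN g
      (Normal.quotient_commutative_iff_commutator_le.1 inferInstance hg))
  rw [← h1, ← classInner_irr_self hθ, e]
  congr 1
  ext n
  rw [Pi.mul_apply, hβN _ (mem_subgroupOf.2 n.2), h4, one_mul]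
  exact h2 ⟨⟨n, hT n.2⟩, n.2⟩

/-- The restriction to a Sylow subgroup is a multiple of an irreducible character. -/
theorem exists_irr [Fintype G] {Z : Subgroup G} [Z.Normal] {f : G → ℂ} {e k p a : ℕ}
    (hp : p.Prime) (hf : IsCharacter G f) (h : Hom Z f e) (hZ : Z.index = p ^ a)
    (he : e ^ 2 = k * p ^ a) (hk : ¬ p ∣ k) :
    ∃ (ψ : G → ℂ) (c : ℕ), IsIrrCharacter G ψ ∧ c ^ 2 = k ∧ f = (c : ℂ) • ψ := by
  classical
  obtain ⟨h0, θ, hθ, h1⟩ := h
  have he0 : (e : ℂ) ≠ 0 := by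
    rw [Nat.cast_ne_zero]
    rintro rfl
    exact hk ((mul_eq_zero.1 he.symm).resolve_right (pow_ne_zero _ hp.ne_zero) ▸ dvd_zero p)
  have h1' : (fun z : Z => f z) = (e : ℂ) • θ := funext h1
  obtain ⟨ψ, hψ, h2⟩ := exists_irr_constituent hf
    ((h1 1).trans_ne (mul_ne_zero he0 (irr_one_ne_zero hθ)))
  obtain ⟨c, hc⟩ := exists_classInner_eq_nat hf (isCharacter_of_isIrr hψ)
  have hI : (Z.index : ℂ) ≠ 0 := Nat.cast_ne_zero.2 index_ne_zero_of_finite
  have h3 := classInner_res_of_vanish Z h0 ψ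
  rw [h1', classInner_smul_left, classInner_comm_char (isCharacter_of_isIrr hθ)
    (isCharacter_restrict Z (isCharacter_of_isIrr hψ))] at h3
  have h4 : classInner (fun z : Z => ψ z) θ ≠ 0 :=
    right_ne_zero_of_mul (h3.trans_ne (mul_ne_zero hI h2))
  have hinv : ∀ g, conjChar Z g θ = θ := fun g => by
    have := conjChar_res Z g (isClassFunction_of_isCharacter hf)
    rw [h1'] at this
    exact smul_right_injective _ he0 this
  obtain ⟨m, hm, h5⟩ := exists_degree_eq_mul Z hθ hψ h4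
  have h6 := congrFun (clifford_invariant Z hψ hθ h4 hinv) 1
  rw [mul_right_cancel₀ (irr_one_ne_zero hθ) (h6.symm.trans h5), hc] at h3
  have h7 : e * m = p ^ a * c := by rw [← hZ]; exact_mod_cast h3
  obtain ⟨b, -, rfl⟩ := (Nat.dvd_prime_pow hp).1 (hZ ▸ hm)
  have h8 : k * (p ^ b) ^ 2 = p ^ a * c ^ 2 :=
    Nat.eq_of_mul_eq_mul_left (pow_pos hp.pos a) (by
      calc p ^ a * (k * (p ^ b) ^ 2) = (e * p ^ b) ^ 2 := by rw [mul_pow, he]; ring
        _ = _ := by rw [h7]; ring)
  have h9 : k ≤ c ^ 2 := by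
    obtain ⟨d, hd⟩ := ((hp.coprime_iff_not_dvd.2 hk).pow_left a).dvd_of_dvd_mul_left ⟨_, h8⟩
    have : 0 < d := Nat.pos_of_ne_zero fun e => pow_ne_zero 2 (pow_ne_zero b hp.ne_zero)
      (by rw [hd, e, mul_zero])
    rw [hd, mul_left_comm] at h8
    exact Nat.eq_of_mul_eq_mul_left (pow_pos hp.pos a) h8 ▸ Nat.le_mul_of_pos_right _ this
  have h10 : classInner f f = k := by
    have := classInner_res_of_vanish Z h0 f
    rw [h1', classInner_smul_left, classInner_smul_right, classInner_irr_self hθ,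
      map_natCast] at this
    refine mul_left_cancel₀ hI (this.symm.trans ?_)
    rw [hZ, mul_one, ← Nat.cast_mul, ← Nat.cast_mul, ← pow_two, he, mul_comm]
  have h11 : classInner (f - (c : ℂ) • ψ) (f - (c : ℂ) • ψ) = (((k : ℝ) - c ^ 2 : ℝ) : ℂ) := by
    simp only [classInner_sub_left, classInner_sub_right, classInner_smul_left,
      classInner_smul_right, h10, hc, classInner_irr_self hψ, map_natCast,
      classInner_comm_char (isCharacter_of_isIrr hψ) hf]
    push_cast
    ring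
  have h12 := classInner_self_re_nonneg (f - (c : ℂ) • ψ)
  rw [h11, Complex.ofReal_re, sub_nonneg] at h12
  have h13 : c ^ 2 = k := le_antisymm (by exact_mod_cast h12) h9
  refine ⟨ψ, c, hψ, h13, sub_eq_zero.1 (classInner_self_eq_zero.1 ?_)⟩
  rw [h11, ← h13]
  simp

theorem sq_mul_index [Fintype G] (K : Subgroup G) [K.Normal] [Fintype K] {χ : G → ℂ}
    (hχ : IsIrrCharacter G χ) (h0 : ∀ g, g ∉ K → χ g = 0) {θ : K → ℂ} (hθ : IsIrrCharacter K θ)
    {e : ℕ} (he : classInner (fun k : K => χ k) θ = e) (h : e ≠ 0) :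
    e ^ 2 * (inertia K θ).index = K.index := by
  classical
  have hc := clifford K hχ hθ (he ▸ Nat.cast_ne_zero.2 h)
  have h1 := classInner_res_of_vanish K h0 χ
  conv_lhs at h1 => enter [2]; rw [hc]
  rw [classInner_smul_right, classInner_sum_right, he, classInner_irr_self hχ,
    Finset.sum_congr rfl (g := fun _ => (e : ℂ)), Finset.sum_const, card_conjSet, map_natCast] at h1
  · have : ((e ^ 2 * (inertia K θ).index : ℕ) : ℂ) = K.index := by
      rw [← mul_one (K.index : ℂ), ← h1]; push_cast; ring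
    exact_mod_cast this
  · intro ψ hψ
    obtain ⟨g, rfl⟩ := (mem_conjSet K).1 hψ
    rw [classInner_res_conjChar K g (isClassFunction_of_isIrr hχ), he]

theorem relIndex_eq_index [Finite G] {I R : Subgroup G} (h : ∀ g : G, ∃ r ∈ R, g * r⁻¹ ∈ I) :
    I.relIndex R = I.index := by
  refine Nat.card_eq_of_bijective (Quotient.map' Subtype.val fun a b hab =>
    QuotientGroup.leftRel_apply.2 (mem_subgroupOf.1 (QuotientGroup.leftRel_apply.1 hab))) ⟨?_, ?_⟩
  · rintro ⟨a⟩ ⟨b⟩ e
    exact Quotient.sound' (QuotientGroup.leftRel_apply.2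
      (mem_subgroupOf.2 (QuotientGroup.leftRel_apply.1 (Quotient.exact' e))))
  · rintro ⟨g⟩
    obtain ⟨r, hr, e⟩ := h g⁻¹
    exact ⟨Quotient.mk'' ⟨r⁻¹, inv_mem hr⟩, Quotient.sound' (QuotientGroup.leftRel_apply.2
      (by simpa using inv_mem e))⟩

/-- The local analysis in the normalizer of `Q`. -/
theorem exists_inertia [Fintype G] {Z Q N R : Subgroup G} [Z.Normal] [Q.Normal] [N.Normal]
    [Fintype Q] {f : G → ℂ} {e k p a : ℕ} (hp : p.Prime) (hf : IsCharacter G f) (h : Hom Z f e)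
    (hZ : Z ≤ Q) (hQ : Q ≤ R) (hR : Z.relIndex R = p ^ a) (he : e ^ 2 = k * p ^ a)
    (hk : ¬ p ∣ k) (hN : ¬ p ∣ Q.relIndex N) :
    ∃ (I : Subgroup G) (c m d : ℕ), N ≤ I ∧ c ^ 2 = k ∧ m ^ 2 * I.index = Q.relIndex R ∧
      charDegree f = c * m * I.index * d ∧ 0 < d ∧
      (∀ μ, IsIrrCharacter Q μ → classInner (fun q : Q => f q) μ ≠ 0 → charDegree μ = d) ∧
      (IsCyclic (R ⧸ Q.subgroupOf R) → m = 1) := by
  classical
  obtain ⟨ψ, c, hψ, hc, h1⟩ := exists_irr hp (isCharacter_restrict R hf) (h.res (hZ.trans hQ))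
    hR he hk
  have hc0 : (c : ℂ) ≠ 0 := by
    rw [Nat.cast_ne_zero]
    rintro rfl
    exact hk (hc ▸ dvd_zero p)
  let j := subgroupOfEquivOfLe hQ
  have h2 : ∀ μ : Q → ℂ, classInner (fun q : Q => f q) μ =
      c * classInner (fun q : Q.subgroupOf R => ψ q) fun q => μ (j q) := fun μ => by
    rw [← classInner_smul_left, ← classInner_comp_mulEquiv j]
    congr 1
    ext q
    exact congrFun h1 q
  obtain ⟨ξ', hξ', h3⟩ := exists_irr_under (Q.subgroupOf R) hψ
  obtain ⟨ξ, rfl⟩ : ∃ ξ : Q → ℂ, ξ' = fun q => ξ (j q) := ⟨fun q => ξ' (j.symm q), by simp⟩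
  have hξ : IsIrrCharacter Q ξ := by simpa using isIrr_comp_mulEquiv j.symm hξ'
  have h4 : ∀ μ, IsIrrCharacter Q μ → classInner (fun q : Q => f q) μ ≠ 0 →
      ∃ r ∈ R, μ = conjChar Q r ξ := fun μ hμ h4 => by
    obtain ⟨r, e⟩ := clifford_conj _ hψ hξ' (isIrr_comp_mulEquiv j hμ) h3
      (right_ne_zero_of_mul (h2 μ ▸ h4))
    exact ⟨r, r.2, funext fun q => congrFun e (j.symm q)⟩
  have h5 : (inertia Q ξ).relIndex R = (inertia Q ξ).index := relIndex_eq_index fun g => by
    obtain ⟨r, hr, e⟩ := h4 _ (isIrr_conjChar Q g hξ) (inner_conjChar_ne_zero Q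
      (isClassFunction_of_isCharacter hf) (h2 ξ ▸ mul_ne_zero hc0 h3) g)
    exact ⟨r, hr, (conjChar_eq_iff Q).1 e⟩
  have h6 : (inertia (Q.subgroupOf R) fun q => ξ (j q)).index = (inertia Q ξ).index := by
    rw [← h5, relIndex]
    congr 1
    ext r
    rw [mem_subgroupOf, mem_inertia', mem_inertia']
    exact ⟨fun e q => e (j.symm q), fun e q => e (j q)⟩
  obtain ⟨m, hm, h7, h8⟩ := exists_deg_clifford _ hψ hξ' h3
  have h9 := sq_mul_index (Q.subgroupOf R) hψ (fun g hg => (mul_eq_zero.1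
    ((congrFun h1 g).symm.trans (h.1 g fun e => hg (hZ e)))).resolve_left hc0) hξ' h7 hm.ne'
  rw [h6] at h8 h9
  refine ⟨inertia Q ξ, c, m, charDegree ξ, ?_, hc, h9, ?_, deg_pos hξ, fun μ hμ h10 => ?_,
    fun _ => ?_⟩
  · have a1 : (inertia Q ξ).relIndex N ∣ p ^ a := by
      refine (CfsgLib.Fgs.relIndex_dvd_index_of_normal_right _ N).trans ?_
      rw [← h5, ← hR]
      exact relIndex_dvd_of_le_left R (hZ.trans (le_inertia Q (isClassFunction_of_isIrr hξ)))
    obtain ⟨b, -, a2⟩ := (Nat.dvd_prime_pow hp).1 a1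
    have a3 := relIndex_dvd_of_le_left N (le_inertia Q (isClassFunction_of_isIrr hξ))
    rcases b with _ | b
    · exact relIndex_eq_one.1 a2
    · exact absurd ((a2 ▸ dvd_pow_self p b.succ_ne_zero).trans a3) hN
  · refine deg_eq_of_eq ((congrFun h1 1).trans ?_)
    rw [Pi.smul_apply, ← deg_cast (isCharacter_of_isIrr hψ), h8,
      show (charDegree fun q => ξ (j q)) = _ from deg_comp j.toMonoidHom ξ, smul_eq_mul]
    push_cast
    ring
  · obtain ⟨r, -, rfl⟩ := h4 μ hμ h10
    exact deg_conjChar Q r ξ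
  · exact_mod_cast h7.symm.trans (mult_one _ _ (QuotientGroup.ker_mk' _) hψ hξ' h3)

theorem hom_of [Fintype G] {Z : Subgroup G} [Z.Normal] {χ : G → ℂ} (hχ : IsIrrCharacter G χ)
    {θ : Z → ℂ} (hθ : IsIrrCharacter Z θ) {e : ℕ} (he : e ^ 2 = Z.index)
    (h : ∀ z : Z, χ z = e * θ z) : Hom Z χ e ∧ ∀ ψ, IsIrrCharacter G ψ →
      classInner (indFun Z θ) ψ ≠ 0 → ψ = χ := by
  classical
  have h1 : (fun z : Z => χ z) = (e : ℂ) • θ := funext h
  have h2 := Cfsg.Agent.S0900.result Z χ hχ θ hθ (by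
    rw [h1, classInner_smul_left, classInner_irr_self hθ, mul_one, Nat.cast_ne_zero]
    rintro rfl
    exact index_ne_zero_of_finite he.symm)
  exact ⟨⟨(h2.1.1 ⟨e, h1, he⟩).1, θ, hθ, h⟩, (h2.2.1 ⟨e, h1, he⟩ 1 1).2⟩

theorem exists_res_ind [Fintype G] (K : Subgroup G) {φ : K → ℂ} (hφ : IsCharacter K φ) :
    ∃ Ξ, IsCharacter K Ξ ∧ (fun k : K => indFun K φ k) = φ + Ξ := by
  classical
  refine isCharacter_induction (P := fun φ => ∃ Ξ, IsCharacter K Ξ ∧
    (fun k : K => indFun K φ k) = φ + Ξ) ⟨0, isCharacter_zero, by rw [indFun_zero]; ext; simp⟩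
    (fun χ ψ hχ _ ⟨Ξ, h1, h2⟩ => ?_) hφ
  obtain ⟨Ξ', h3, h4⟩ := exists_eq_add_of_inner_ne_zero (isCharacter_restrict K
    (isCharacter_indFun K (isCharacter_of_isIrr hχ))) hχ (inner_res_indFun_self_ne_zero K hχ)
  refine ⟨Ξ' + Ξ, isCharacter_add h3 h1, funext fun k => ?_⟩
  rw [indFun_add, Pi.add_apply, congrFun h4 k, congrFun h2 k]
  simp only [Pi.add_apply]
  ring

theorem exists_index [Fintype G] {Z K : Subgroup G} [Z.Normal] [K.Normal] (hZK : Z ≤ K)
    {χ : G → ℂ} (hχ : IsCharacter G χ) {e : ℕ} (h : Hom Z χ e) (he : e ^ 2 = Z.index) {p : ℕ}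
    [hp : Fact p.Prime] (P : Sylow p (G ⧸ K))
    (hc : IsCyclic P ∨ ∃ φ, IsCharacter K φ ∧ indFun K φ = χ) :
    ∃ M : Subgroup (G ⧸ K), M.index = Nat.card P := by
  classical
  obtain ⟨S, rfl⟩ := Sylow.mapSurjective_surjective (QuotientGroup.mk'_surjective K) p P
  set R := Z ⊔ S with hR
  set Q := Z ⊔ K ⊓ S with hQ
  have hQ' : K ⊓ R = Q := inf_sup_of_le_of_le_normalizer le_normalizer_of_normal hZK
  set L := normalizer (Q : Set G) with hL
  have hRL : R ≤ L := by
    rw [hL, ← hQ']; exact le_normalizer_inf le_normalizer_of_normal le_normalizer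
  have hQR : Q ≤ R := hQ' ▸ inf_le_right
  have hS : IsSylowIn p (K ⊓ S) K := inf_comm K S ▸
    (isSylowIn_top S).inf_of_normal le_top le_normalizer_of_normal
  have hQn : (Q.subgroupOf L).Normal := normal_subgroupOf_of_le le_rfl
  obtain ⟨a, ha⟩ : ∃ a, Z.relIndex R = p ^ a := by
    obtain ⟨n, hn⟩ := S.isPGroup'.exists_card_eq
    obtain ⟨a, -, ha⟩ := (Nat.dvd_prime_pow hp.out).1 (hn ▸ index_dvd_card (Z.subgroupOf S))
    exact ⟨a, (relIndex_sup_left _ Z).trans ha⟩
  have hk : ¬ p ∣ R.index := fun e => S.not_dvd_index (e.trans (index_dvd_of_le le_sup_right))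
  obtain ⟨I, c, m, d, h1, h2, h3, h4, h5, h6, h7⟩ := exists_inertia (N := K.subgroupOf L)
    (Q := Q.subgroupOf L) (R := R.subgroupOf L) hp.out (isCharacter_restrict L hχ)
    (h.res (le_sup_left.trans hRL)) (comap_mono le_sup_left) (comap_mono hQR)
    ((relIndex_subgroupOf hRL).trans ha)
    (by rw [he, ← ha, mul_comm, relIndex_mul_index le_sup_left]) hk (by
      rw [← inf_subgroupOf_right K, relIndex_subgroupOf inf_le_right]
      exact fun e => (hS.mono (le_inf inf_le_left (le_sup_right.trans le_normalizer))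
        inf_le_left).not_dvd_relIndex (e.trans (relIndex_dvd_of_le_left _ le_sup_right)))
  have h8 : Q.relIndex R = Nat.card (S.mapSurjective (QuotientGroup.mk'_surjective K)) := by
    rw [← hQ', inf_relIndex_right, Sylow.coe_mapSurjective, ← relIndex_ker,
      QuotientGroup.ker_mk', ← relIndex_sup_left R K, ← sup_assoc, sup_eq_left.2 hZK,
      relIndex_sup_left]
  rw [relIndex_subgroupOf hRL] at h3
  have hm : m = 1 := by
    rcases hc with hc | ⟨φ, hφ, rfl⟩
    · refine h7 (isCyclic_quot (((QuotientGroup.mk' K).comp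
        (L.subtype.comp (R.subgroupOf L).subtype)).codRestrict
        (S.mapSurjective (QuotientGroup.mk'_surjective K) : Subgroup _) fun x => ?_) ?_)
      · have : R.map (QuotientGroup.mk' K) ≤ (S : Subgroup G).map (QuotientGroup.mk' K) := by
          rw [Subgroup.map_sup, (Subgroup.map_eq_bot_iff _).2 (hZK.trans (QuotientGroup.ker_mk' K).ge), bot_sup_eq]
        exact this (mem_map_of_mem _ x.2)
      · ext x
        exact (Subtype.ext_iff.trans (QuotientGroup.eq_one_iff _)).trans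
          ⟨fun e => hQ'.le ⟨e, x.2⟩, fun e => (hQ'.ge e).1⟩
    · obtain ⟨Ξ, a1, a2⟩ := exists_res_ind K hφ
      let j : Q.subgroupOf L →* K :=
        (L.subtype.comp (Q.subgroupOf L).subtype).codRestrict K fun x => (hQ'.ge x.2).1
      obtain ⟨s, a3⟩ : d ∣ charDegree φ := by
        rw [← deg_comp j φ]
        refine dvd_deg_of_forall (isCharacter_comp j hφ) fun μ hμ a3 => (h6 μ hμ fun e => a3 ?_).symm.dvd
        obtain ⟨x, hx⟩ := exists_classInner_eq_nat (isCharacter_comp j hφ) (isCharacter_of_isIrr hμ)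
        obtain ⟨y, hy⟩ := exists_classInner_eq_nat (isCharacter_comp j a1) (isCharacter_of_isIrr hμ)
        rw [show (fun q : Q.subgroupOf L => indFun K φ (q : L)) = (fun q => φ (j q)) + fun q => Ξ (j q)
          from funext fun q => congrFun a2 (j q), classInner_add_left, hx, hy, ← Nat.cast_add,
          Nat.cast_eq_zero] at e
        rw [hx, (Nat.add_eq_zero_iff.1 e).1, Nat.cast_zero]
      rw [deg_res L, deg_ind K hφ, a3, mul_comm d, ← mul_assoc] at h4
      have a4 : m ^ 2 * I.index ∣ c * m * I.index := by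
        rw [← Nat.eq_of_mul_eq_mul_right h5 h4, h3, ← hQ', inf_relIndex_right]
        exact (relIndex_dvd_index_of_normal K R).mul_right _
      have a5 : m ∣ p ^ a := ((dvd_pow_self m two_ne_zero).trans (Dvd.intro _ h3)).trans
        (ha ▸ relIndex_dvd_of_le_left R le_sup_left)
      have a6 : m ≠ 0 := fun e => pow_ne_zero a hp.out.ne_zero (zero_dvd_iff.1 (e ▸ a5))
      have a7 : m ∣ c := Nat.dvd_of_mul_dvd_mul_right (Nat.pos_of_ne_zero a6) (pow_two m ▸
        Nat.dvd_of_mul_dvd_mul_right (Nat.pos_of_ne_zero index_ne_zero_of_finite) a4)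
      exact Nat.eq_one_of_dvd_coprimes ((hp.out.coprime_iff_not_dvd.2 hk).pow_left a) a5
        ((a7.trans (dvd_pow_self c two_ne_zero)).trans h2.dvd)
  refine ⟨(K ⊔ I.map L.subtype).map (QuotientGroup.mk' K), ?_⟩
  rw [index_map_eq _ (QuotientGroup.mk'_surjective K) ((QuotientGroup.ker_mk' K).le.trans le_sup_left),
    ← h8, ← h3, hm, one_pow, one_mul, ← relIndex_eq_index (R := L) fun g => ?_, relIndex]
  · congr 1
    refine le_antisymm (fun x hx => ?_) (map_le_iff_le_comap.1 le_sup_right)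
    obtain ⟨k, hk, _, ⟨i, hi, rfl⟩, e⟩ :=
      (mem_sup_iff_of_right_le_normalizer le_normalizer_of_normal).1 hx
    refine (mul_mem_cancel_right (inv_mem hi)).1 (h1 (mem_subgroupOf.2 ?_))
    rwa [coe_mul, show (x : G) = k * i from e, coe_inv, mul_inv_cancel_right]
  · obtain ⟨n, hn, y, hy, rfl⟩ := hS.frattini (x := g) (le_normalizer_of_normal (mem_top g))
    exact ⟨y, le_normalizer_sup le_normalizer_of_normal le_rfl hy,
      mem_sup_left (by simpa using hn)⟩

theorem centralizer_ne [Fintype G] {Z : Subgroup G} [Z.Normal] {χ : G → ℂ}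
    (hχ : IsIrrCharacter G χ) {θ : Z → ℂ} (hθ : IsIrrCharacter Z θ) {e : ℕ} (he : e ^ 2 = Z.index)
    (h : ∀ z : Z, χ z = e * θ z) (hZ : Z ≠ ⊤) (C : Subgroup (G ⧸ Z)) (hC : IsCyclic C) :
    centralizer (C : Set (G ⧸ Z)) ≠ C := fun hc => by
  classical
  obtain ⟨⟨h0, -⟩, h1⟩ := hom_of hχ hθ he h
  obtain ⟨c, rfl⟩ := (Subgroup.isCyclic_iff_exists_zpowers_eq_top C).1 hC
  have hc' : ∀ x, x * c = c * x → x ∈ zpowers c := fun x hx => hc.le fun y ⟨n, hn⟩ =>
    hn ▸ ((show Commute c x from hx.symm).zpow_left n).eq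
  have hc1 : c ≠ 1 := by
    rintro rfl
    refine hZ (top_le_iff.1 fun g _ => (QuotientGroup.eq_one_iff g).1 ?_)
    simpa using hc' g (by simp)
  set L := (zpowers c).comap (QuotientGroup.mk' Z) with hL
  have hZL : Z ≤ L := fun z hz => by
    rw [hL, mem_comap, QuotientGroup.mk'_apply, (QuotientGroup.eq_one_iff z).2 hz]
    exact one_mem _
  let π : L →* zpowers c := ((QuotientGroup.mk' Z).comp L.subtype).codRestrict _ fun x => x.2
  have hπ : π.ker = Z.subgroupOf L := by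
    ext x
    exact Subtype.ext_iff.trans (QuotientGroup.eq_one_iff _)
  have := isCyclic_quot π hπ
  let j := subgroupOfEquivOfLe hZL
  have he0 : (e : ℂ) ≠ 0 := by
    rw [Nat.cast_ne_zero]
    rintro rfl
    exact index_ne_zero_of_finite he.symm
  obtain ⟨η, hη, h2⟩ := exists_irr_extension_of_isCyclic (Z.subgroupOf L)
    (isIrr_comp_mulEquiv j hθ) fun g n => mul_left_cancel₀ he0 (by
      rw [← h, ← h]; exact isClassFunction_of_isIrr hχ n g)
  obtain ⟨t, rfl⟩ := QuotientGroup.mk_surjective c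
  let s : L := ⟨t, mem_zpowers (t : G ⧸ Z)⟩
  let f : L → ℂ := fun x => classInd (π s) (π x) * η x
  have hf : ∀ x : L, ((x : G) : G ⧸ Z) ≠ (s : G) → f x = 0 := fun x hx => by
    rw [show f x = _ * _ from rfl, classInd_of_not_isConj, zero_mul]
    intro e
    obtain ⟨y, e⟩ := isConj_iff.1 e
    rw [mul_comm' y, mul_inv_cancel_right] at e
    exact hx (congrArg Subtype.val e)
  have h3 : indFun L f = 0 := classFun_eq_zero_of_inner (isClassFunction_indFun L f) fun ψ hψ => by
    rw [classInner_indFun_left L f (isClassFunction_of_isIrr hψ)]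
    by_cases e : ψ = χ
    · rw [classInner_def, Finset.sum_eq_zero, mul_zero]
      intro x _
      by_cases hx : (x : G) ∈ Z
      · rw [hf x (((QuotientGroup.eq_one_iff _).2 hx).trans_ne hc1.symm), zero_mul]
      · rw [e, h0 x hx, map_zero, mul_zero]
    have h4 : f = ∑ β : IrrCharacter (zpowers (t : G ⧸ Z)),
        classInner (classInd (π s)) β • fun x => (β : _ → ℂ) (π x) * η x := by
      ext x
      simp only [f, Finset.sum_apply, Pi.smul_apply, smul_eq_mul, ← mul_assoc, ← Finset.sum_mul]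
      rw [← classFun_apply_eq_sum (isClassFunction_classInd _)]
    rw [h4, classInner_sum_left, Finset.sum_eq_zero]
    intro β _
    rw [classInner_smul_left, mul_eq_zero]
    refine Or.inr (by_contra fun h5 => e (h1 ψ hψ ?_))
    have h6 := gallagher_isIrr (Z.subgroupOf L) (isCharacter_of_isIrr hη)
      (by rw [funext h2]; exact isIrr_comp_mulEquiv j hθ) (isIrr_comp_of_surjective π
        (fun ⟨x, hx⟩ => (QuotientGroup.mk_surjective x).elim fun y e =>
          ⟨⟨y, mem_comap.2 (e.symm ▸ hx : (y : G ⧸ Z) ∈ _)⟩, Subtype.ext e⟩)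
        β.2) fun n hn => by rw [(MonoidHom.mem_ker.1 (hπ.ge hn)), map_one]
    rw [classInner_indFun_left Z θ (isClassFunction_of_isIrr hψ)]
    refine fun e => inner_res_ne_zero_trans hZL (isCharacter_of_isIrr hψ) h6
      (isCharacter_of_isIrr hθ) (fun e => h5 (classInner_eq_zero_symm e)) ?_
      (classInner_eq_zero_symm e)
    rw [show (fun z : Z => ((fun x => (β : _ → ℂ) (π x)) * η) ⟨z, hZL z.2⟩) = β.1 1 • θ from
      funext fun z => by
        rw [Pi.mul_apply, MonoidHom.mem_ker.1 (hπ.ge (mem_subgroupOf.2 z.2))]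
        exact congrArg _ (h2 ⟨⟨z, hZL z.2⟩, z.2⟩), classInner_smul_left, classInner_irr_self hθ,
      mul_one]
    exact irr_one_ne_zero β.2
  have h4 := sum_coset_mul_conj (Z.subgroupOf L) (isCharacter_of_isIrr hη)
    (by rw [funext h2]; exact isIrr_comp_mulEquiv j hθ) s
  rw [Finset.sum_eq_zero] at h4
  · exact natCard_ne_zero h4.symm
  intro n _
  have h5 : π (n * s) = π s := by
    rw [map_mul, MonoidHom.mem_ker.1 (hπ.ge n.2), one_mul]
  have h6 := indFun_eq_of_ti L {x | (x : G ⧸ Z) = (s : G)} (fun g hg x hx e => absurd (hc' g (by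
      rw [Set.mem_ofPred, QuotientGroup.mk_mul, QuotientGroup.mk_mul, QuotientGroup.mk_inv,
        show (x : G ⧸ Z) = (s : G) from hx] at e
      exact mul_inv_eq_iff_eq_mul.1 e)) hg) (ψ := f)
    (isClassFunction_mul (isClassFunction_comp π (isClassFunction_classInd _))
      (isClassFunction_of_isIrr hη)) hf (n * s) (congrArg Subtype.val h5)
    fun e => hc1 (congrArg Subtype.val (h5.symm.trans ((congrArg π e).trans (map_one π))) :)
  rw [h3, show f _ = _ * _ from rfl, h5, classInd_of_isConj (IsConj.refl _), one_mul] at h6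
  rw [← h6, Pi.zero_apply, zero_mul]

end CfsgLib.FullRam
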